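import Cfsg.Agent.Lib.Zsigmondy
import Mathlib

/-!
# S2452, `F₄(q)`: the primes (helper975)

* `exists_twelve` : a prime `r ∣ q⁴ - q² + 1` with `orderOf (q : ZMod r) = 12`, `r ≥ 13`;
* `exists_eight` : a prime `r ∣ q⁴ + 1` with `orderOf (q : ZMod r) = 8`, `r ≥ 17`.
-/

set_option autoImplicit false

namespace Cfsg.Agent.H975.FR

theorem dvd_sub_one {q r n : ℕ} (hr : r.Prime) (h : orderOf (q : ZMod r) = n) (hn : 0 < n) : n ∣ r - 1 := by
  have : Fact r.Prime := ⟨hr⟩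
  rw [← h]
  apply orderOf_dvd_of_pow_eq_one
  apply ZMod.pow_card_sub_one_eq_one
  intro h0
  rw [h0] at h
  have h1 : orderOf (0 : ZMod r) = 0 := by
    rw [orderOf_eq_zero_iff']
    intro k hk h2
    rw [zero_pow hk.ne'] at h2
    exact zero_ne_one h2
  omega

theorem sq_eq_one_iff_of_dom {r : ℕ} [Fact r.Prime] {x : ZMod r} (h : x ^ 2 = 1) : x = 1 ∨ x = -1 := by
  have h1 : (x - 1) * (x + 1) = 0 := by linear_combination h
  rcases mul_eq_zero.1 h1 with h2 | h2
  · exact Or.inl (sub_eq_zero.1 h2)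
  · exact Or.inr (eq_neg_of_add_eq_zero_left h2)

theorem coprime_of_order {q r n : ℕ} (hr : r.Prime) (h : orderOf (q : ZMod r) = n) (hn : 0 < n) : Nat.Coprime r q := by
  have : Fact r.Prime := ⟨hr⟩
  rw [Nat.Prime.coprime_iff_not_dvd hr]
  intro hd
  rw [(ZMod.natCast_eq_zero_iff q r).2 hd] at h
  have h1 : orderOf (0 : ZMod r) = 0 := by
    rw [orderOf_eq_zero_iff']
    intro k hk h2
    rw [zero_pow hk.ne'] at h2
    exact zero_ne_one h2
  omega

/-- a primitive prime of `q ^ 12 - 1` -/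
theorem exists_twelve {q : ℕ} (hq : 2 ≤ q) : ∃ r : ℕ, r.Prime ∧ orderOf (q : ZMod r) = 12 ∧ r ∣ q ^ 4 - q ^ 2 + 1 ∧
    13 ≤ r ∧ Nat.Coprime r 6 ∧ Nat.Coprime r q := by
  obtain ⟨r, hr, h⟩ := Cfsg.Agent.Lib.Zsigmondy.exists_prime_orderOf (a := q) (n := 12) hq (by omega)
    (fun h => by omega) (fun h => by omega)
  have : Fact r.Prime := ⟨hr⟩
  have h1 := dvd_sub_one hr h (by omega)
  have h13 : 13 ≤ r := by
    have h2 := hr.two_le
    have h3 := Nat.le_of_dvd (by omega) h1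
    omega
  refine ⟨r, hr, h, ?_, h13, ?_, coprime_of_order hr h (by omega)⟩
  · have h2 : ((q : ZMod r) ^ 6) ^ 2 = 1 := by
      rw [← pow_mul, ← orderOf_dvd_iff_pow_eq_one, h]
    have h3 : (q : ZMod r) ^ 6 ≠ 1 := by
      intro h4
      rw [← orderOf_dvd_iff_pow_eq_one, h] at h4
      omega
    have h4 : (q : ZMod r) ^ 6 = -1 := by
      rcases sq_eq_one_iff_of_dom h2 with h5 | h5
      · exact absurd h5 h3
      · exact h5
    have h5 : (q : ZMod r) ^ 2 + 1 ≠ 0 := by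
      intro h6
      have h7 : (q : ZMod r) ^ 4 = 1 := by linear_combination ((q : ZMod r) ^ 2 - 1) * h6
      rw [← orderOf_dvd_iff_pow_eq_one, h] at h7
      omega
    have h6 : ((q : ZMod r) ^ 2 + 1) * ((q : ZMod r) ^ 4 - (q : ZMod r) ^ 2 + 1) = 0 := by linear_combination h4
    have h7 := (mul_eq_zero.1 h6).resolve_left h5
    have hle : q ^ 2 ≤ q ^ 4 := Nat.pow_le_pow_right (by omega) (by omega)
    rw [← ZMod.natCast_eq_zero_iff]
    push_cast [Nat.cast_sub hle]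
    exact h7
  · rw [Nat.Prime.coprime_iff_not_dvd hr]
    intro h2
    have := Nat.le_of_dvd (by omega) h2
    omega

/-- a primitive prime of `q ^ 8 - 1` -/
theorem exists_eight {q : ℕ} (hq : 2 ≤ q) : ∃ r : ℕ, r.Prime ∧ orderOf (q : ZMod r) = 8 ∧ r ∣ q ^ 4 + 1 ∧
    17 ≤ r ∧ Nat.Coprime r 6 ∧ Nat.Coprime r q := by
  obtain ⟨r, hr, h⟩ := Cfsg.Agent.Lib.Zsigmondy.exists_prime_orderOf (a := q) (n := 8) hq (by omega)
    (fun h => by omega) (fun h => by omega)
  have : Fact r.Prime := ⟨hr⟩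
  have h1 := dvd_sub_one hr h (by omega)
  have h17 : 17 ≤ r := by
    have h2 := hr.two_le
    have h3 := Nat.le_of_dvd (by omega) h1
    have h4 : r ≠ 9 := by
      rintro rfl
      exact absurd hr (by norm_num)
    omega
  refine ⟨r, hr, h, ?_, h17, ?_, coprime_of_order hr h (by omega)⟩
  · have h2 : ((q : ZMod r) ^ 4) ^ 2 = 1 := by
      rw [← pow_mul, ← orderOf_dvd_iff_pow_eq_one, h]
    have h3 : (q : ZMod r) ^ 4 ≠ 1 := by
      intro h4
      rw [← orderOf_dvd_iff_pow_eq_one, h] at h4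
      omega
    have h4 : (q : ZMod r) ^ 4 = -1 := by
      rcases sq_eq_one_iff_of_dom h2 with h5 | h5
      · exact absurd h5 h3
      · exact h5
    rw [← ZMod.natCast_eq_zero_iff]
    push_cast
    rw [h4]
    ring
  · rw [Nat.Prime.coprime_iff_not_dvd hr]
    intro h2
    have := Nat.le_of_dvd (by omega) h2
    omega

end Cfsg.Agent.H975.FR
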